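import Cfsg.Agent.H851.Dg.Big
import Cfsg.Agent.H947.El.Sz
import Cfsg.Agent.H947.El.Ree
import Cfsg.Agent.H436.Names
import Cfsg.Agent.S0331

/-!
# S5734: Suzuki and Ree groups (helper41; the arguments are those of helper947, `H947/El/Sz.lean`, `H947/El/Ree*.lean`)

* `exc_sz` : a proper subgroup of `Sz(q)` misses a prime with cyclic Sylow subgroups;
* `exc_ree` : a proper subgroup of `²G₂(q)` misses a prime with cyclic Sylow subgroups.
-/

set_option autoImplicit false
set_option linter.style.haveILetI false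
set_option linter.unusedSectionVars false

namespace Cfsg.Agent.H41.DgExc

open MulAction Subgroup Cfsg Cfsg.Agent.H947.El Cfsg.Agent.H851.Dg Cfsg.Agent.OrdDiv
open Cfsg.Agent.H101.SzAbs Cfsg.Agent.H101.SzGeo Cfsg.Agent.H101.SzAbs.Geo Cfsg.Agent.H101.SzSub

theorem missC_congr {T S : Type*} [Group T] [Group S] (e : T ≃* S) (M : Subgroup S)
    (h : MissC (M.comap e.toMonoidHom)) : MissC M := by
  obtain ⟨u, j, hu, hj, h1, h2, h3⟩ := h
  have hM : Nat.card (M.comap e.toMonoidHom) = Nat.card M :=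
    Nat.card_congr (e.toEquiv.subtypeEquiv fun _ => Iff.rfl)
  refine ⟨u, j, hu, hj, by rwa [← Nat.card_congr e.toEquiv], by rwa [← hM], fun P hP => ?_⟩
  have h4 : IsPGroup u (P.comap e.toMonoidHom) := hP.comap_of_injective _ e.injective
  have h5 := h3 _ h4
  refine isCyclic_of_surjective (e.toMonoidHom.subgroupComap P) ?_
  rintro ⟨x, hx⟩
  obtain ⟨y, rfl⟩ := e.surjective x
  exact ⟨⟨y, hx⟩, rfl⟩

section suzuki

variable {F : Type*} [Field F] [Fintype F] {m : ℕ}

/-- **the Suzuki groups**: a proper subgroup misses an odd prime (helper947's argument) -/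
theorem sz_aux (hm : 1 ≤ m) (hF : Fintype.card F = 2 ^ (2 * m + 1)) (M : Subgroup (Cfsg.Sz F m)) (hM : M ≠ ⊤)
    (hall : ∀ p : ℕ, p.Prime → p ≠ 2 → p ∣ Nat.card (Cfsg.Sz F m) → p ∣ Nat.card M) : False := by
  obtain ⟨q, r, hq, hr, h8, h2q, h2r, hrq, hrr⟩ := num_sz m hm
  have hfin : Finite (Cfsg.Sz F m) := inferInstance
  have hcardG := Cfsg.Agent.S0324.result hm hF
  rw [← hq] at hcardG
  -- the primitive prime
  obtain ⟨ρ, hρ, hρ1, hρ2, hρ3⟩ := Cfsg.Agent.Lib.Zsigmondy.exists_primitive (a := 2) (n := 4 * (2 * m + 1)) le_rfl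
    (by omega) (by omega) (by omega)
  have hρq1 : ¬ ρ ∣ q - 1 := by
    intro h
    rw [hq] at h
    have := (hρ1 _).1 h
    have := Nat.le_of_dvd (by omega) this
    omega
  have hρq : ρ ∣ q ^ 2 + 1 := by
    have h1 : ρ ∣ q ^ 4 - 1 := by
      rw [hq, ← pow_mul]
      exact (hρ1 _).2 (by rw [mul_comm])
    have h2 : q ^ 4 - 1 = (q ^ 2 + 1) * (q ^ 2 - 1) := by
      have : (q ^ 2) ^ 2 - 1 ^ 2 = (q ^ 2 + 1) * (q ^ 2 - 1) := Nat.sq_sub_sq _ _
      rw [← this, ← pow_mul, one_pow]
    rw [h2] at h1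
    refine (hρ.dvd_mul.1 h1).resolve_right fun h => ?_
    rw [hq, ← pow_mul] at h
    have := (hρ1 _).1 h
    have := Nat.le_of_dvd (by omega) this
    omega
  have hρodd : ρ ≠ 2 := by rintro rfl; exact hρ3 dvd_rfl
  have hρM : ρ ∣ Nat.card M := hall ρ hρ hρodd (by rw [hcardG]; exact (hρq.mul_left _).mul_right _)
  have : Fact ρ.Prime := ⟨hρ⟩
  obtain ⟨x, hx⟩ := exists_prime_orderOf_dvd_card' (G := M) ρ hρM
  have hxo : orderOf (x : Cfsg.Sz F m) = ρ := by rw [Subgroup.orderOf_coe, hx]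
  rcases Cfsg.Agent.S2251.result hm hF M hM with ⟨P0, hP0⟩ | ⟨U, hUc, hUk, hU⟩ | ⟨K, _, _, k, hk1, hkm, hK, hdiv, S, ⟨e⟩, hS⟩
  · -- `M ≤ N(P)`
    obtain ⟨S, hSP, -⟩ := exists_sylow hm hF (inf F m)
    obtain ⟨g, hg⟩ := exists_smul_eq (Cfsg.Sz F m) P0 S
    have hy : g * (x : Cfsg.Sz F m) * g⁻¹ ∈ Subgroup.normalizer ((S : Subgroup (Cfsg.Sz F m)) : Set (Cfsg.Sz F m)) := by
      rw [← hg, Sylow.coe_subgroup_smul]
      exact conj_mem_normalizer_map g (hP0 x.2)
    rw [hSP] at hy
    have hSne : (S : Subgroup (Cfsg.Sz F m)) ≠ ⊥ := by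
      refine S.ne_bot_of_dvd_card ?_
      rw [hcardG]
      exact ((h2q.pow (by norm_num)).mul_right _).mul_right _
    obtain ⟨t, ht⟩ := Subgroup.ne_bot_iff_exists_ne_one.1 hSne
    have ht1 : (t : Cfsg.Sz F m) ≠ 1 := fun h => ht (Subtype.ext h)
    have htP : (t : Cfsg.Sz F m) ∈ P hF (inf F m) := by rw [← hSP]; exact t.2
    set y := g * (x : Cfsg.Sz F m) * g⁻¹ with hyd
    have h1 := (Subgroup.mem_normalizer_iff.1 hy t).1 htP
    have h2 := conj_mem_P hm hF y _ _ htP
    have hne : y * t * y⁻¹ ≠ 1 := by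
      intro h
      apply ht1
      calc (t : Cfsg.Sz F m) = y⁻¹ * (y * t * y⁻¹) * y := by group
        _ = 1 := by rw [h]; group
    have h3 := (geo hm hF).free (inf F m) (y • inf F m) _ h1 ((geo hm hF).le _ _ h2) hne
    have h4 : y ∈ MulAction.stabilizer (Cfsg.Sz F m) (Cfsg.suzukiPointInfinity F) := congrArg Subtype.val h3
    have h5 := Subgroup.orderOf_dvd_natCard _ h4
    rw [Cfsg.Agent.S0329.result hm hF, ← hq] at h5
    have h6 : orderOf y = ρ := by rw [hyd, ← MulAut.conj_apply, MulEquiv.orderOf_eq, hxo]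
    rw [h6] at h5
    rcases hρ.dvd_mul.1 h5 with h7 | h7
    · have h8 := hρ.dvd_of_dvd_pow h7
      rw [hq] at h8
      exact hρodd ((Nat.prime_dvd_prime_iff_eq hρ Nat.prime_two).1 (hρ.dvd_of_dvd_pow h8))
    · exact hρq1 h7
  · -- `M ≤ N(U)`
    have h1 := sz_normalizer hm hF U hUc hUk x (hU x.2) (by rw [hxo]; exact hρ) (by rw [hxo]; exact hρodd)
    rw [hxo] at h1
    rw [← hq, ← hr] at hUk
    rcases hUk with hUk | hUk
    · rw [hUk] at h1
      exact hρq1 h1
    · have hUd : Nat.card U ∣ q ^ 2 + 1 := by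
        have e2 : q ^ 2 + 1 = (q + r + 1) * (q - r + 1) := by
          zify [show r ≤ q by omega]
          have : (r : ℤ) * r = 2 * q := by exact_mod_cast hrr
          linear_combination this
        rw [e2]
        rcases hUk with hUk | hUk
        · rw [hUk]; exact dvd_mul_right _ _
        · rw [Set.mem_singleton_iff] at hUk
          rw [hUk]; exact dvd_mul_left _ _
      obtain ⟨s, hs, hsd⟩ := Nat.exists_prime_and_dvd (n := q - 1) (by omega)
      have hs2 : s ≠ 2 := by
        rintro rfl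
        have h2 : 2 ∣ q - (q - 1) := Nat.dvd_sub h2q hsd
        rw [Nat.sub_sub_self (by omega)] at h2
        omega
      have : Fact s.Prime := ⟨hs⟩
      obtain ⟨z, hz⟩ := exists_prime_orderOf_dvd_card' (G := M) s
        (hall s hs hs2 (by rw [hcardG]; exact hsd.mul_left _))
      have hzo : orderOf (z : Cfsg.Sz F m) = s := by rw [Subgroup.orderOf_coe, hz]
      have h2 := sz_normalizer hm hF U hUc (by
        rw [← hq, ← hr]; exact Or.inr hUk) z (hU z.2) (by rw [hzo]; exact hs) (by rw [hzo]; exact hs2)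
      rw [hzo] at h2
      have h3 := h2.trans hUd
      have h4 : q ^ 2 + 1 = (q - 1) * (q + 1) + 2 := by
        obtain ⟨t, rfl⟩ : ∃ t, q = t + 1 := ⟨q - 1, by omega⟩
        rw [Nat.add_sub_cancel]; ring
      rw [h4] at h3
      exact hs2 ((Nat.prime_dvd_prime_iff_eq hs Nat.prime_two).1 ((Nat.dvd_add_right (hsd.mul_right _)).1 h3))
  · -- a smaller Suzuki group
    have h1 : ρ ∣ Nat.card S := hρM.trans (Subgroup.card_dvd_of_le hS)
    rw [Nat.card_congr e.toEquiv, Cfsg.Agent.S0324.result hk1 hK] at h1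
    obtain ⟨s, hs⟩ : ∃ s, s = 2 ^ (2 * k + 1) := ⟨_, rfl⟩
    rw [← hs] at h1
    have h2 : ρ ∣ s ^ 4 - 1 := by
      have e2 : s ^ 4 - 1 = (s ^ 2 + 1) * ((s - 1) * (s + 1)) := by
        have h3 : (s ^ 2) ^ 2 - 1 ^ 2 = (s ^ 2 + 1) * (s ^ 2 - 1) := Nat.sq_sub_sq _ _
        have h4 : s ^ 2 - 1 ^ 2 = (s + 1) * (s - 1) := Nat.sq_sub_sq _ _
        rw [one_pow] at h3 h4
        rw [h4, mul_comm (s + 1)] at h3
        rw [← h3, ← pow_mul]
      rw [e2]
      rcases hρ.dvd_mul.1 h1 with h3 | h3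
      · rcases hρ.dvd_mul.1 h3 with h4 | h4
        · have h5 := hρ.dvd_of_dvd_pow h4
          rw [hs] at h5
          exact absurd ((Nat.prime_dvd_prime_iff_eq hρ Nat.prime_two).1 (hρ.dvd_of_dvd_pow h5)) hρodd
        · exact h4.mul_right _
      · exact (h3.mul_right _).mul_left _
    rw [hs, ← pow_mul] at h2
    have h3 := (hρ1 _).1 h2
    have := Nat.le_of_dvd (by omega) h3
    omega


theorem sz_miss (hm : 1 ≤ m) (hF : Fintype.card F = 2 ^ (2 * m + 1)) (M : Subgroup (Cfsg.Sz F m)) (hM : M ≠ ⊤) :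
    MissC M := by
  by_contra hcon
  refine sz_aux hm hF M hM fun p hp hp2 hpd => ?_
  by_contra hpn
  have : Fact p.Prime := ⟨hp⟩
  refine hcon ⟨p, 1, hp, le_rfl, by rwa [pow_one], by rwa [pow_one], fun E hE => ?_⟩
  obtain ⟨P, hP⟩ := hE.exists_le_sylow
  exact isCyclic_of_le (Cfsg.Agent.S0331.result hm hF hp2 P) hP

end suzuki

section ree

variable {R : Type*} [Group R] [Finite R] {m q r ρ : ℕ} (h : ReeF R m q r) (n : ReeN m q r ρ)

include h n

/-- no elementary abelian `p`-subgroup is normalised by `M` if `M` has all primes -/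
theorem not_elem (M : Subgroup R)
    (hall : ∀ p : ℕ, p.Prime → 3 < p → p ∣ Nat.card R → p ∣ Nat.card M) {p : ℕ} (hp : p.Prime)
    {E : Subgroup R} (hE : IsPGroup p E) (hE1 : E ≠ ⊥) (hEe : ∀ x ∈ E, x ^ p = 1)
    (hn : M ≤ Subgroup.normalizer (E : Set R)) : False := by
  have : Fact ρ.Prime := ⟨n.pr⟩
  have : Fact p.Prime := ⟨hp⟩
  have h27 := n.q27
  have h19 := n.q19
  have hge := n.ge
  have hm := h.hm
  have hρR : ρ ∣ Nat.card R := by rw [h.card, n.cube]; exact (n.dvd.mul_left _).mul_left _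
  obtain ⟨x, hx⟩ := exists_prime_orderOf_dvd_card' (G := M) ρ (hall ρ n.pr (by omega) hρR)
  have hxo : orderOf (x : R) = ρ := by rw [Subgroup.orderOf_coe, hx]
  have hnt : Nontrivial E := (Subgroup.nontrivial_iff_ne_bot E).2 hE1
  have hcE : 1 < Nat.card E := Finite.one_lt_card
  obtain ⟨a, ha⟩ := (IsPGroup.iff_card).1 hE
  have ha0 : 0 < a := by
    rcases Nat.eq_zero_or_pos a with rfl | ha0
    · rw [pow_zero] at ha; omega
    · exact ha0
  rcases Nat.lt_or_ge 3 p with h3p | hp3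
  · -- `p > 3`
    have hcyc := h.cyc p hp h3p E hE
    have hEp : Nat.card E = p := by
      have h1 : Monoid.exponent E ∣ p := by
        rw [Monoid.exponent_dvd_iff_forall_pow_eq_one]
        intro y
        exact Subtype.ext (hEe y y.2)
      rw [IsCyclic.exponent_eq_card] at h1
      rcases (Nat.dvd_prime hp).1 h1 with h2 | h2
      · omega
      · exact h2
    obtain ⟨A, hAc, hEA, hA⟩ := h.norm p hp h3p E hEp
    have hρN : ρ ∣ Nat.card (Subgroup.normalizer (E : Set R)) :=
      (hall ρ n.pr (by omega) hρR).trans (Subgroup.card_dvd_of_le hn)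
    obtain ⟨s, hs, hsd⟩ := Nat.exists_prime_and_dvd (n := (q - 1) / 2) (by omega)
    have hq4 := n.q4
    have hsq : s ∣ q - 1 := hsd.trans (Nat.div_dvd_of_dvd (by omega))
    have hs3 : 3 < s := by
      by_contra hcon
      have h2 := hs.two_le
      have hq3 := n.q3
      have h3 : s = 2 ∨ s = 3 := by omega
      rcases h3 with rfl | rfl
      · obtain ⟨k, hk⟩ := hsd
        omega
      · omega
    have hsN : s ∣ Nat.card (Subgroup.normalizer (E : Set R)) :=
      (hall s hs hs3 (by rw [h.card]; exact (hsq.mul_left _).mul_right _)).trans (Subgroup.card_dvd_of_le hn)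
    rcases hA with ⟨hA1, hA2⟩ | ⟨hA1, hA2⟩ | ⟨hA1, hA2⟩
    · rw [hA2, show 4 * Nat.card A = 2 * (2 * Nat.card A) by ring, hA1] at hρN
      rcases n.pr.dvd_mul.1 hρN with h1 | h1
      · have := Nat.le_of_dvd (by norm_num) h1; omega
      · exact n.nq1 h1
    · rw [hA2, show 24 * Nat.card A = 6 * (4 * Nat.card A) by ring, hA1] at hρN
      rcases n.pr.dvd_mul.1 hρN with h1 | h1
      · have := Nat.le_of_dvd (by norm_num) h1; omega
      · exact n.nqp h1
    · rw [hA2] at hsN
      rcases hs.dvd_mul.1 hsN with h1 | h1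
      · have h2 : s = 2 ∨ s = 3 := by
          have := Nat.le_of_dvd (by norm_num) h1
          have := hs.two_le
          interval_cases s <;> first | omega | (exfalso; revert hs; decide)
        have hq3 := n.q3
        rcases h2 with rfl | rfl <;> omega
      · have h2 : Nat.card A ∣ q ^ 2 - q + 1 := by
          rw [n.fac]
          rcases hA1 with hA1 | hA1
          · rw [hA1]; exact dvd_mul_right _ _
          · rw [hA1]; exact dvd_mul_left _ _
        have h3 := h1.trans h2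
        have h4 : q ^ 2 - q = (q - 1) * q := by rw [Nat.sub_mul, one_mul, pow_two]
        rw [h4] at h3
        exact hs.one_lt.ne' (Nat.dvd_one.1 ((Nat.dvd_add_right (hsq.mul_right _)).1 h3))
  · have hp23 : p = 2 ∨ p = 3 := by
      have := hp.two_le
      omega
    have h1 := h.card_sub_one n hxo hp23 hE (hn x.2)
    rcases hp23 with rfl | rfl
    · have := (h.pow_two_le n hE).1
      have := Nat.le_of_dvd (by omega) h1
      omega
    · rw [ha] at h1
      have h2 := Nat.le_of_dvd ha0 ((n.iff a).1 h1)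
      have h3 : 3 ^ a ∣ q ^ 3 * (q - 1) * (q ^ 3 + 1) := by
        rw [← ha, ← h.card]; exact Subgroup.card_subgroup_dvd_card _
      have h4 : Nat.Coprime (3 ^ a) (q - 1) := by
        apply Nat.Coprime.pow_left
        rw [Nat.prime_three.coprime_iff_not_dvd]
        have := n.q3
        omega
      have h5 : Nat.Coprime (3 ^ a) (q ^ 3 + 1) := by
        apply Nat.Coprime.pow_left
        rw [Nat.prime_three.coprime_iff_not_dvd]
        intro h6
        have h7 : 3 ∣ q ^ 3 := n.q3.pow (by norm_num)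
        omega
      have h6 := h4.dvd_of_dvd_mul_right (h5.dvd_of_dvd_mul_right h3)
      rw [h.hq, ← pow_mul] at h6
      have h7 := (Nat.pow_dvd_pow_iff_le_right (by norm_num)).1 h6
      omega

/-- **the main theorem on `²G₂(q)`** -/
theorem eq_top (M : Subgroup R) (hall : ∀ p : ℕ, p.Prime → 3 < p → p ∣ Nat.card R → p ∣ Nat.card M) :
    M = ⊤ := by
  classical
  have hf2 : Fact (Nat.Prime 2) := ⟨Nat.prime_two⟩
  have hρR : ρ ∣ Nat.card R := by rw [h.card, n.cube]; exact (n.dvd.mul_left _).mul_left _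
  have h19 := n.q19
  have hρM := hall ρ n.pr (by omega) hρR
  have h16 : ¬ 16 ∣ Nat.card R := by
    intro h1
    obtain ⟨S⟩ : Nonempty (Sylow 2 R) := inferInstance
    have h2 := (h.syl2 S).1
    rw [S.card_eq_multiplicity] at h2
    have h3 : 4 ≤ (Nat.card R).factorization 2 :=
      (Nat.prime_two.pow_dvd_iff_le_factorization Nat.card_pos.ne').1 (by norm_num; exact h1)
    have h4 : 2 ^ 4 ≤ 2 ^ (Nat.card R).factorization 2 := Nat.pow_le_pow_right (by norm_num) h3
    omega
  have hnt : Nontrivial M := by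
    rw [← Finite.one_lt_card_iff_nontrivial]
    have := Nat.le_of_dvd Nat.card_pos hρM
    omega
  obtain ⟨N, hN, hN1, hmin⟩ := Cfsg.Agent.Lib.SubnormalJoin.exists_minimal_normal M
  obtain ⟨T, k, hTN, hTs, hk, ⟨e⟩⟩ := Cfsg.Agent.Lib.MinNormal.exists_mulEquiv_pi N hN1 hmin
  by_cases hT : IsMulCommutative T
  · exfalso
    have hab : ∀ x ∈ N, ∀ y ∈ N, Commute x y := by
      intro x hx y hy
      have h1 : (⟨x, hx⟩ : N) * ⟨y, hy⟩ = ⟨y, hy⟩ * ⟨x, hx⟩ := by
        apply e.injective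
        rw [map_mul, map_mul]
        funext i
        exact hT.is_comm.comm _ _
      exact congrArg Subtype.val h1
    obtain ⟨p, hp, hpN, hexp⟩ := Cfsg.Agent.Lib.MinNormalNonabelian.abelian_structure N hN1 hmin hab
    refine not_elem h n M hall hp (E := N.map M.subtype) (hpN.map _) ?_ ?_ ?_
    · intro hb
      rw [Subgroup.map_eq_bot_iff_of_injective _ M.subtype_injective] at hb
      exact hN1 hb
    · rintro _ ⟨x, hx, rfl⟩
      rw [← map_pow, hexp x hx, map_one]
    · have h1 := Subgroup.le_normalizer_map (H := N) M.subtype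
      rw [Subgroup.normalizer_eq_top N, ← MonoidHom.range_eq_map, Subgroup.range_subtype] at h1
      exact h1
  · have hTns : ¬ Group.IsSolvable T := by
      intro h1
      have h2 := IsSimpleGroup.comm_iff_isSolvable (G := T) |>.2 h1
      exact hT ⟨⟨h2⟩⟩
    have h4T : 4 ∣ Nat.card T := by
      by_contra h4
      exact hTns (Cfsg.Agent.CpAut.SmallP.isSolvable_of_not_four_dvd h4)
    have hcN : Nat.card N = Nat.card T ^ k := by
      rw [Nat.card_congr e.toEquiv, Nat.card_pi, Finset.prod_const, Finset.card_univ, Fintype.card_fin]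
    have hNR : Nat.card N ∣ Nat.card R := (Subgroup.card_subgroup_dvd_card N).trans (Subgroup.card_subgroup_dvd_card M)
    have hk1 : k = 1 := by
      by_contra hk1
      apply h16
      refine dvd_trans ?_ hNR
      rw [hcN]
      calc 16 = 4 ^ 2 := by norm_num
        _ ∣ Nat.card T ^ 2 := pow_dvd_pow_of_dvd h4T 2
        _ ∣ Nat.card T ^ k := pow_dvd_pow _ (by omega)
    subst hk1
    have e' : T ≃* N := ((MulEquiv.piUnique (fun _ : Fin 1 => T)).symm).trans e.symm
    have hNs : IsSimpleGroup N := e'.symm.isSimpleGroup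
    have hNna : ¬ IsMulCommutative N := by
      intro h1
      apply hT
      refine ⟨⟨fun a b => ?_⟩⟩
      apply e'.injective
      rw [map_mul, map_mul]
      exact h1.is_comm.comm _ _
    have h4N : 4 ∣ Nat.card N := by rw [hcN, pow_one]; exact h4T
    have hρN := h.dvd_of_simple n M hρM N h4N
    have h5 := h.card_of_simple n (M.subtype.comp N.subtype) (M.subtype_injective.comp N.subtype_injective) hNs hNna hρN
    have h6 : Nat.card N ≤ Nat.card M := Subgroup.card_le_card_group N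
    exact Subgroup.eq_top_of_le_card M (h5.trans h6)


theorem ree_miss (M : Subgroup R) (hM : M ≠ ⊤) : MissC M := by
  by_contra hcon
  refine hM (eq_top h n M fun p hp hp2 hpd => ?_)
  by_contra hpn
  exact hcon ⟨p, 1, hp, le_rfl, by rwa [pow_one], by rwa [pow_one], h.cyc p hp hp2⟩

end ree

/-- **the Suzuki groups**: a proper subgroup misses a prime with cyclic Sylow subgroups -/
theorem missC_sz {T : Type*} [Group T] (h : Cfsg.Lie.IsoSuzuki T) (M : Subgroup T) (hM : M ≠ ⊤) : MissC M := by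
  obtain ⟨F, iF, iF', m, hm, hF, ⟨e⟩⟩ := h
  obtain ⟨f⟩ := Cfsg.Agent.OddCyclic.ClaimC.SzIso.iso hm hF
  refine missC_congr (f.trans e.symm) M (sz_miss hm hF _ fun ht => hM ?_)
  rw [eq_top_iff]
  intro x _
  have : (f.trans e.symm).symm x ∈ M.comap (f.trans e.symm).toMonoidHom := by rw [ht]; trivial
  simpa using this

/-- **the Ree groups**: a proper subgroup misses a prime with cyclic Sylow subgroups -/
theorem missC_ree {T : Type*} [Group T] (h : Cfsg.Lie.IsoRee T) (M : Subgroup T) (hM : M ≠ ⊤) : MissC M := by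
  obtain ⟨K, iK, iK', m, hm, hK, ⟨e⟩⟩ := h
  obtain ⟨ρ, n⟩ := exists_reeN m hm
  have F := reeF hm hK n
  have hfin : Finite ↥(Cfsg.Lie.twistedG2 K (3 ^ m)) := inferInstance
  refine missC_congr e.symm M (ree_miss F n _ fun ht => hM ?_)
  rw [eq_top_iff]
  intro x _
  have : e x ∈ M.comap e.symm.toMonoidHom := by rw [ht]; trivial
  simpa using this

theorem exc_sz {T : Type*} [Group T] {q : ℕ} (h : Real (.sz q) T) (R : Subgroup T) (hR : R ≠ ⊤) : MissC R := by
  obtain ⟨F, iF, iF', m, hm, hF, hq, e⟩ := h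
  exact missC_sz ⟨F, iF, iF', m, hm, hF.trans hq, e⟩ R hR

theorem exc_ree {T : Type*} [Group T] {q : ℕ} (h : Real (.ree q) T) (R : Subgroup T) (hR : R ≠ ⊤) : MissC R := by
  obtain ⟨F, iF, iF', m, hm, hF, hq, e⟩ := h
  exact missC_ree ⟨F, iF, iF', m, hm, hF.trans hq, e⟩ R hR

end Cfsg.Agent.H41.DgExc
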